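import Groth.Agent.NormSmoothBC.Basic

/-!
Characterisations of the normalization of an integral scheme.
-/

set_option autoImplicit false
set_option linter.style.haveILetI false
set_option backward.isDefEq.respectTransparency false
universe u

open CategoryTheory CategoryTheory.Limits AlgebraicGeometry

namespace Groth.Agent.NormChar

theorem eq_of_specializes {W V : Scheme.{u}} (f : W ⟶ V) [IsIntegralHom f] {z z' : W} (h : z' ⤳ z)
    (e : f z' = f z) : z' = z := by
  obtain ⟨O, hO, hzO, -⟩ := exists_isAffineOpen_mem_and_subset (x := f z) (U := (⊤ : V.Opens)) trivial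
  have hW : IsAffineOpen (f ⁻¹ᵁ O) := hO.preimage f
  have hz'O : z' ∈ f ⁻¹ᵁ O := h.mem_open (f ⁻¹ᵁ O).isOpen hzO
  have hint : (f.app O).hom.IsIntegral := f.isIntegral_app O hO
  have hc : ∀ (x : W) (hx : x ∈ f ⁻¹ᵁ O), (hW.primeIdealOf ⟨x, hx⟩).asIdeal.comap (f.app O).hom =
      (hO.primeIdealOf ⟨f x, hx⟩).asIdeal := fun x hx => by
    have := IsAffineOpen.comap_primeIdealOf_appLE O hO (f ⁻¹ᵁ O) hW (f := f) (x := x) le_rfl hx
    rw [← Scheme.Hom.app_eq_appLE] at this
    rw [← this]
    rfl
  have hle : hW.primeIdealOf ⟨z', hz'O⟩ ≤ hW.primeIdealOf ⟨z, hzO⟩ :=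
    (PrimeSpectrum.le_iff_specializes _ _).2 (hW.fromSpec.isEmbedding.toIsInducing.specializes_iff.1 (by
      rw [hW.fromSpec_primeIdealOf, hW.fromSpec_primeIdealOf]; exact h))
  suffices he : hW.primeIdealOf ⟨z', hz'O⟩ = hW.primeIdealOf ⟨z, hzO⟩ by
    have := congrArg hW.fromSpec he
    rwa [hW.fromSpec_primeIdealOf, hW.fromSpec_primeIdealOf] at this
  letI := (f.app O).hom.toAlgebra
  haveI : Algebra.IsIntegral Γ(V, O) Γ(W, f ⁻¹ᵁ O) := ⟨hint⟩
  by_contra hne
  have := Ideal.IsIntegral.comap_lt_comap (R := Γ(V, O)) (lt_of_le_of_ne hle fun h => hne (PrimeSpectrum.ext h))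
  rw [RingHom.algebraMap_toAlgebra, hc z' hz'O, hc z hzO] at this
  simp only [e] at this
  exact lt_irrefl _ this

variable (X : Scheme.{u}) [IsIntegral X] [QuasiCompact (X.fromSpecStalk (genericPoint X))]
  [QuasiSeparated (X.fromSpecStalk (genericPoint X))] {Y : Scheme.{u}} (f : Y ⟶ X)

theorem stalk_iso_normalization :
    IsIso ((Curv2.normalizationι X).stalkMap (genericPoint (Curv2.normalization X))) := by
  let j := (X.fromSpecStalk (genericPoint X)).toNormalization
  let c := IsLocalRing.closedPoint (X.presheaf.stalk (genericPoint X))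
  have hjc : j c = genericPoint (Curv2.normalization X) := NormSmoothBC.genericPoint_normalization
  rw [← hjc]
  let ν := Curv2.normalizationι X
  have hν : ν (j c) = genericPoint X := by rw [hjc]; exact NormSmoothBC.ι_genericPoint
  have h : Function.Surjective ((j ≫ ν).stalkMap c) := by
    have hj : j ≫ ν = X.fromSpecStalk (genericPoint X) := Scheme.Hom.toNormalization_fromNormalization _
    rw [hj]
    exact Scheme.Hom.stalkMap_surjective _ _
  rw [Scheme.Hom.stalkMap_comp] at h
  have hF₁ : IsField (X.presheaf.stalk (ν (j c))) := by rw [hν]; exact Field.toIsField X.functionField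
  have hF₂ : IsField ((X.fromSpecStalk (genericPoint X)).normalization.presheaf.stalk (j c)) := by
    show IsField ((Curv2.normalization X).presheaf.stalk (j c))
    rw [hjc]; exact Field.toIsField (Curv2.normalization X).functionField
  letI := hF₁.toField
  letI := hF₂.toField
  haveI : Nontrivial ((Spec (X.presheaf.stalk (genericPoint X))).presheaf.stalk c) := inferInstance
  refine (ConcreteCategory.isIso_iff_bijective _).2 ⟨(ν.stalkMap (j c)).hom.injective, fun t => ?_⟩
  obtain ⟨w, hw⟩ := h ((j.stalkMap c).hom t)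
  exact ⟨w, (j.stalkMap c).hom.injective hw⟩

theorem of_iso (e : Y ≅ Curv2.normalization X) (he : e.hom ≫ Curv2.normalizationι X = f) :
    Pi1.IsNormalScheme Y ∧ IsIntegralHom f ∧
      ∃ _ : IrreducibleSpace ↥Y, f.base ⁻¹' {genericPoint X} = {genericPoint Y} ∧
        IsIso (f.stalkMap (genericPoint Y)) := by
  haveI : IsIntegralHom (Curv2.normalizationι X) :=
    inferInstanceAs (IsIntegralHom (X.fromSpecStalk (genericPoint X)).fromNormalization)
  subst he
  haveI : Nonempty ↥Y := ⟨e.inv (genericPoint (Curv2.normalization X))⟩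
  haveI : IsIntegral Y := isIntegral_of_isOpenImmersion e.hom
  have hgen : e.hom (genericPoint Y) = genericPoint (Curv2.normalization X) :=
    genericPoint_eq_of_isOpenImmersion e.hom
  refine ⟨fun y => ?_, inferInstance, inferInstance, ?_, ?_⟩
  · have h := NormSmoothBC.isNormal (X := X) (e.hom y)
    haveI := h.1
    haveI := h.2
    exact ⟨(asIso (e.hom.stalkMap y)).commRingCatIsoToRingEquiv.symm.toMulEquiv.isDomain _,
      IsIntegrallyClosed.of_equiv (asIso (e.hom.stalkMap y)).commRingCatIsoToRingEquiv⟩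
  · refine Set.eq_singleton_iff_unique_mem.2 ⟨?_, fun y hy =>
      (eq_of_specializes (e.hom ≫ Curv2.normalizationι X) (genericPoint_specializes y) ?_).symm⟩
    · show Curv2.normalizationι X (e.hom (genericPoint Y)) = genericPoint X
      rw [hgen]; exact NormSmoothBC.ι_genericPoint
    · rw [show (e.hom ≫ Curv2.normalizationι X) y = genericPoint X from hy, Scheme.Hom.comp_apply, hgen]
      exact NormSmoothBC.ι_genericPoint
  · rw [Scheme.Hom.stalkMap_comp]
    haveI : IsIso ((Curv2.normalizationι X).stalkMap (e.hom (genericPoint Y))) := by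
      rw [hgen]; exact stalk_iso_normalization X
    infer_instance

theorem exists_iso (hY : Pi1.IsNormalScheme Y) [IsIntegralHom f] [IrreducibleSpace ↥Y]
    (hfib : f.base ⁻¹' {genericPoint X} = {genericPoint Y}) [IsIso (f.stalkMap (genericPoint Y))] :
    ∃ e : Y ≅ Curv2.normalization X, e.hom ≫ Curv2.normalizationι X = f := by
  have hgen : f (genericPoint Y) = genericPoint X := hfib.ge rfl
  haveI : IsReduced Y := @isReduced_of_isReduced_stalk Y fun y => haveI := (hY y).1; inferInstance
  haveI : IsIntegralHom (Curv2.normalizationι X) :=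
    inferInstanceAs (IsIntegralHom (X.fromSpecStalk (genericPoint X)).fromNormalization)
  have hd : ∀ y : Y, ∃ ζ, ζ ⤳ y ∧ f ζ = genericPoint X := fun y => ⟨_, genericPoint_specializes y, hgen⟩
  obtain ⟨h, hh, -⟩ := NormUniv.existsUnique_lift f (fun y => (hY y).1) hd (fun y => (hY y).2)
  change h ≫ Curv2.normalizationι X = f at hh
  let j : Spec (X.presheaf.stalk (genericPoint X)) ⟶ Y :=
    Spec.map ((X.presheaf.stalkCongr (.of_eq hgen.symm)).hom ≫ f.stalkMap (genericPoint Y) |> inv) ≫
      Y.fromSpecStalk (genericPoint Y)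
  have hj : X.fromSpecStalk (genericPoint X) = j ≫ f := by
    rw [Category.assoc, ← Scheme.SpecMap_stalkMap_fromSpecStalk, ← Spec.map_comp_assoc, IsIso.inv_comp,
      IsIso.hom_inv_id_assoc, Spec.map_inv, IsIso.eq_inv_comp]
    simp [TopCat.Presheaf.stalkCongr]
  haveI : IsDominant j := ⟨by
    intro y
    refine specializes_iff_mem_closure.1 (genericPoint_specializes y) |> fun h => closure_mono ?_ h
    rintro _ rfl
    refine ⟨IsLocalRing.closedPoint _, ?_⟩
    rw [Scheme.Hom.comp_apply]
    have hF : IsField (Y.presheaf.stalk (genericPoint Y)) :=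
      ((asIso (f.stalkMap (genericPoint Y))).commRingCatIsoToRingEquiv.symm.toMulEquiv).isField
        (by rw [hgen]; exact Field.toIsField X.functionField)
    letI := hF.toField
    haveI : Subsingleton ↥(Spec (Y.presheaf.stalk (genericPoint Y))) :=
      inferInstanceAs (Subsingleton (PrimeSpectrum (Y.presheaf.stalk (genericPoint Y))))
    exact (congrArg (Y.fromSpecStalk (genericPoint Y)) (Subsingleton.elim _ (IsLocalRing.closedPoint _))).trans
      Scheme.fromSpecStalk_closedPoint⟩
  let g := X.fromSpecStalk (genericPoint X)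
  let c := g.normalizationDesc j f hj
  have hc : c ≫ f = Curv2.normalizationι X := g.normalizationDesc_comp _ _ hj
  have hX := NormSmoothBC.isNormal (X := X)
  have hdX : ∀ z : Curv2.normalization X, ∃ ζ, ζ ⤳ z ∧ Curv2.normalizationι X ζ = genericPoint X :=
    fun z => ⟨_, genericPoint_specializes z, NormSmoothBC.ι_genericPoint⟩
  have h1 : c ≫ h = 𝟙 _ := NormUniv.hom_ext _ (fun z => (hX z).1) hdX _ _
    (show (c ≫ h) ≫ Curv2.normalizationι X = Curv2.normalizationι X by rw [Category.assoc, hh, hc])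
    (Category.id_comp _)
  have h2 : j ≫ h = g.toNormalization := by
    haveI : IsDomain (X.presheaf.stalk (genericPoint X)) := inferInstanceAs (IsDomain X.functionField)
    refine NormUniv.hom_ext g (fun z => inferInstance) (fun z => ⟨z, specializes_rfl, ?_⟩) _ _ ?_ ?_
    · exact NormSmoothBC.range_fromSpecStalk_genericPoint
    · show (j ≫ h) ≫ Curv2.normalizationι X = g
      rw [Category.assoc, hh]; exact hj.symm
    · exact Scheme.Hom.toNormalization_fromNormalization _
  refine ⟨⟨h, c, ext_of_isDominant_of_isSeparated f ?_ j ?_, h1⟩, hh⟩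
  · rw [Category.assoc, hc, Category.id_comp]; exact hh
  · rw [Category.comp_id, reassoc_of% h2]
    exact g.toNormalization_normalizationDesc _ _ hj

theorem exists_open_iso (V : X.Opens) (hV : (V : Set ↥X).Nonempty) (hn : ∀ x ∈ V, IsIntegrallyClosed (X.presheaf.stalk x)) :
    IsIso (Curv2.normalizationι X ∣_ V) := by
  let ν := Curv2.normalizationι X
  have hVn : ∀ v : (V : Scheme.{u}), IsDomain ((V : Scheme.{u}).presheaf.stalk v) ∧
      IsIntegrallyClosed ((V : Scheme.{u}).presheaf.stalk v) := fun v => by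
    haveI := hn v.1 v.2
    let e := (V.stalkIso v).commRingCatIsoToRingEquiv
    exact ⟨e.toMulEquiv.isDomain _, IsIntegrallyClosed.of_equiv e.symm⟩
  obtain ⟨x₀, hx₀⟩ := hV
  have hgen : genericPoint X ∈ V := (genericPoint_specializes x₀).mem_open V.isOpen hx₀
  obtain ⟨σ, hσ, -⟩ := NormUniv.existsUnique_lift V.ι (fun v => (hVn v).1)
    (fun v => ⟨⟨genericPoint X, hgen⟩, V.ι.isOpenEmbedding.isInducing.specializes_iff.1 (genericPoint_specializes _), rfl⟩)
    (fun v => (hVn v).2)
  change σ ≫ ν = V.ι at hσ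
  let σ' : (V : Scheme.{u}) ⟶ (ν ⁻¹ᵁ V : (Curv2.normalization X).Opens) := IsOpenImmersion.lift (ν ⁻¹ᵁ V).ι σ (by
    rw [Scheme.Opens.range_ι]; rintro _ ⟨v, rfl⟩
    show (σ ≫ ν) v ∈ V
    rw [hσ]; exact v.2)
  have hσ' : σ' ≫ (ν ⁻¹ᵁ V).ι = σ := IsOpenImmersion.lift_fac _ _ _
  refine ⟨σ', ?_, ?_⟩
  · rw [← cancel_mono (ν ⁻¹ᵁ V).ι, Category.assoc, hσ', Category.id_comp]
    refine NormUniv.hom_ext_of_isOpenImmersion ν (fun z => (NormSmoothBC.isNormal (X := X) z).1)
      (fun z => ⟨_, genericPoint_specializes z, NormSmoothBC.ι_genericPoint⟩) (ν ⁻¹ᵁ V).ι _ _ ?_ ?_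
    · show ((ν ∣_ V) ≫ σ) ≫ ν = (ν ⁻¹ᵁ V).ι ≫ ν
      rw [Category.assoc, hσ, morphismRestrict_ι]
    · rfl
  · rw [← cancel_mono V.ι, Category.assoc, morphismRestrict_ι, reassoc_of% hσ', hσ, Category.id_comp]

omit [QuasiCompact (X.fromSpecStalk (genericPoint X))] [QuasiSeparated (X.fromSpecStalk (genericPoint X))] in
theorem birational_of_open (U : X.Opens) (hU : Dense (U : Set ↥X)) (hfU : Dense ((f ⁻¹ᵁ U : Y.Opens) : Set ↥Y))
    [IsIso (f ∣_ U)] :
    ∃ _ : IrreducibleSpace ↥Y, f.base ⁻¹' {genericPoint X} = {genericPoint Y} ∧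
      IsIso (f.stalkMap (genericPoint Y)) := by
  obtain ⟨x₀, hx₀⟩ := hU.nonempty
  have hgen : genericPoint X ∈ U := (genericPoint_specializes x₀).mem_open U.isOpen hx₀
  let η' : (f ⁻¹ᵁ U : Y.Opens).toScheme := (inv (f ∣_ U)) ⟨genericPoint X, hgen⟩
  have hη : f η'.1 = genericPoint X := by
    have : (inv (f ∣_ U) ≫ (f ∣_ U)) ⟨genericPoint X, hgen⟩ = ⟨genericPoint X, hgen⟩ := by rw [IsIso.inv_hom_id]; rfl
    rw [← morphismRestrict_base_coe]
    exact congrArg Subtype.val this
  have hall : ∀ y ∈ f ⁻¹ᵁ U, η'.1 ⤳ y := fun y hy => by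
    have h1 : (f ∣_ U) η' ⤳ (f ∣_ U) ⟨y, hy⟩ := U.ι.isOpenEmbedding.isInducing.specializes_iff.1 (by
      show ((f ∣_ U) η').1 ⤳ ((f ∣_ U) ⟨y, hy⟩).1
      rw [morphismRestrict_base_coe, morphismRestrict_base_coe]
      exact hη ▸ genericPoint_specializes _)
    exact ((f ∣_ U).isOpenEmbedding.isInducing.specializes_iff.1 h1).map (f ⁻¹ᵁ U).ι.continuous
  have hcl : closure ({η'.1} : Set Y) = Set.univ := Set.eq_univ_of_univ_subset <| by
    rw [← hfU.closure_eq]
    exact closure_minimal (fun y hy => specializes_iff_mem_closure.1 (hall y hy)) isClosed_closure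
  haveI : IrreducibleSpace ↥Y := by
    rw [irreducibleSpace_def]
    show IsIrreducible (Set.univ : Set Y)
    rw [← hcl]
    exact isIrreducible_singleton.closure
  have hg : genericPoint Y = η'.1 := ((genericPoint_spec Y).eq hcl)
  refine ⟨‹_›, ?_, ?_⟩
  · refine Set.eq_singleton_iff_unique_mem.2 ⟨?_, fun y hy => ?_⟩
    · show f (genericPoint Y) = genericPoint X
      rw [hg]; exact hη
    · have hyU : y ∈ f ⁻¹ᵁ U := by show f y ∈ U; rw [show f y = genericPoint X from hy]; exact hgen
      have : (⟨y, hyU⟩ : (f ⁻¹ᵁ U : Y.Opens).toScheme) = η' :=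
        (f ∣_ U).isOpenEmbedding.injective (Subtype.ext (by
          rw [morphismRestrict_base_coe, morphismRestrict_base_coe]
          exact (show f y = genericPoint X from hy).trans hη.symm))
      rw [hg, ← this]
  · rw [hg]
    exact ((MorphismProperty.isomorphisms CommRingCat).arrow_mk_iso_iff (morphismRestrictStalkMap f U η')).1
      (inferInstance : IsIso ((f ∣_ U).stalkMap η'))

end Groth.Agent.NormChar
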